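import Cfsg.Agent.H538.Ore.Hex
import Cfsg.Agent.S2457
import Cfsg.Agent.S2458
import Cfsg.Prelude.Def_LieChev
import Cfsg.Prelude.Def_LieTwisted
import Cfsg.Prelude.Def_Sz

/-!
# Ore's property and four involutions: `Sz(q)`, `²G₂(q)`, `G₂(q)`, `³D₄(q)` (helper538)
-/

set_option autoImplicit false

namespace Cfsg.Agent.H538.Ore

open Cfsg.Agent.H777.Ore

universe u

theorem sr_of_inv {G : Type*} [Group G] {x y : G} (h1 : y * y = 1) (h2 : y * x = x⁻¹ * y) : SR x :=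
  ⟨y, h1, by rw [h2, mul_inv_cancel_right]⟩

/-- Suzuki groups -/
theorem th_sz {F : Type*} [Field F] [Fintype F] (m : ℕ) (hm : 1 ≤ m) (hF : Fintype.card F = 2 ^ (2 * m + 1)) :
    Th ↥(Cfsg.Lie.Sz F (2 ^ (m + 1))) := by
  have H := Cfsg.Agent.LieRecognition.SzMatrix.good hF
  have h8 : 2 ^ 3 ≤ Fintype.card F := by
    rw [hF]
    exact Nat.pow_le_pow_right (by norm_num) (by omega)
  obtain ⟨g, hg⟩ := IsCyclic.exists_generator (α := Fˣ)
  have ho := orderOf_eq_card_of_forall_mem_zpowers hg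
  rw [Nat.card_units, Nat.card_eq_fintype_card] at ho
  have hinj : Function.Injective (MonoidHom.mk' H.d (fun a b => (H.d_mul a b).symm)) := fun a b hab => H.d_inj hab
  have ho' := orderOf_injective _ hinj g
  refine ⟨⟨H.d g, sr_of_inv H.w_mul_w (by rw [H.w_mul_d, H.d_inv]), Cfsg.Agent.S2457.result m hm hF _ ?_⟩⟩
  rw [MonoidHom.mk'_apply] at ho'
  rw [ho', ho]
  omega

/-- small Ree groups -/
theorem th_ree {K : Type*} [Field K] [Fintype K] (m : ℕ) (hm : 1 ≤ m) (hK : Fintype.card K = 3 ^ (2 * m + 1)) :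
    Th ↥(Cfsg.Lie.twistedG2 K (3 ^ m)) := by
  have D := Cfsg.Agent.LieRecognition.ReeFinal.data hK
  have h27 : 3 ^ 3 ≤ Fintype.card K := by
    rw [hK]
    exact Nat.pow_le_pow_right (by norm_num) (by omega)
  have h3 : 3 ∣ Fintype.card K := by
    rw [hK, pow_succ]
    exact dvd_mul_left _ _
  obtain ⟨g, hg⟩ := IsCyclic.exists_generator (α := Kˣ)
  have ho := orderOf_eq_card_of_forall_mem_zpowers hg
  rw [Nat.card_units, Nat.card_eq_fintype_card] at ho
  let φ := MonoidHom.mk' (Cfsg.Agent.LieRecognition.ReeData.h hK) D.h_mul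
  have hinj : Function.Injective φ := fun a b hab => Cfsg.Agent.LieRecognition.ReeData.h_injective hK hab
  have ho' : orderOf (Cfsg.Agent.LieRecognition.ReeData.h hK g) = orderOf g := orderOf_injective φ hinj g
  refine ⟨⟨Cfsg.Agent.LieRecognition.ReeData.h hK g, sr_of_inv D.n_n ?_, Cfsg.Agent.S2458.result m hm hK _ ?_ ?_⟩⟩
  · rw [D.n_h]
    congr 1
    exact map_inv φ g
  · rw [ho', ho]
    omega
  · rw [ho', ho]
    omega

/-- `G₂(q)`, `q ≥ 3` -/
theorem th_g2 {F : Type u} [Field F] [Fintype F] (h3 : 3 ≤ Fintype.card F) : Th ↥(Cfsg.Lie.chevG2.group F) := by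
  by_cases h2 : (2 : F) = 0
  · have : CharP F 2 := CharTwo.of_one_ne_zero_of_two_eq_zero one_ne_zero h2
    by_cases h4 : Fintype.card F = 4
    · exact g2_four_th h4
    · refine g2_even_th ?_
      have := Cfsg.Agent.H148.Hex.two_dvd_card F
      omega
  · exact odd_th (Cfsg.Agent.H148.Hex.g2' F (Cfsg.Agent.H148.Hex.exists_ne h3)) h2

/-- `³D₄(q)` -/
theorem th_d4 {K : Type u} [Field K] [Fintype K] (q : ℕ) (hq : IsPrimePow q) (hK : Fintype.card K = q ^ 3) :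
    Th ↥(Cfsg.Lie.twistedD4 K q) := by
  by_cases h2 : (2 : K) = 0
  · have : CharP K 2 := CharTwo.of_one_ne_zero_of_two_eq_zero one_ne_zero h2
    by_cases h4 : q = 2
    · subst h4
      exact d4_two_th hK
    · refine d4_even_th hK ?_
      have := hq.one_lt
      omega
  · obtain ⟨σ, -, ⟨c⟩⟩ := Cfsg.Agent.Cit.HexD4.exists_d4 (K := K) (q := q) hK
    exact odd_th c h2

variable {G : Type*} [Group G]

theorem th_isoSuzuki (h : Cfsg.Lie.IsoSuzuki G) : Th G := by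
  obtain ⟨F, _, _, m, hm, hF, ⟨e⟩⟩ := h
  exact (th_sz m hm hF).congr e.symm

theorem th_isoRee (h : Cfsg.Lie.IsoRee G) : Th G := by
  obtain ⟨K, _, _, m, hm, hK, ⟨e⟩⟩ := h
  exact (th_ree m hm hK).congr e.symm

theorem th_isoChevG2 (h : Cfsg.Lie.IsoChevG2 G) : Th G := by
  obtain ⟨F, _, _, h3, ⟨e⟩⟩ := h
  exact (th_g2 h3).congr e.symm

theorem th_iso3D4 (h : Cfsg.Lie.Iso3D4 G) : Th G := by
  obtain ⟨K, _, _, q, hq, hK, ⟨e⟩⟩ := h
  exact (th_d4 q hq hK).congr e.symm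

theorem ore_sz (h : Cfsg.Lie.IsoSuzuki G) : AllC G := (th_isoSuzuki h).allC
theorem ore_ree (h : Cfsg.Lie.IsoRee G) : AllC G := (th_isoRee h).allC
theorem ore_g2 (h : Cfsg.Lie.IsoChevG2 G) : AllC G := (th_isoChevG2 h).allC
theorem ore_d4 (h : Cfsg.Lie.Iso3D4 G) : AllC G := (th_iso3D4 h).allC
theorem four_sz (h : Cfsg.Lie.IsoSuzuki G) : Inv4 G := (th_isoSuzuki h).inv4
theorem four_ree (h : Cfsg.Lie.IsoRee G) : Inv4 G := (th_isoRee h).inv4
theorem four_g2 (h : Cfsg.Lie.IsoChevG2 G) : Inv4 G := (th_isoChevG2 h).inv4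
theorem four_d4 (h : Cfsg.Lie.Iso3D4 G) : Inv4 G := (th_iso3D4 h).inv4

end Cfsg.Agent.H538.Ore
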